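import Mathlib

/-!
# Project GOUT (= S3066): `SolvMod`, and the definitions of block P1 (linear groups over `𝔽₂`)
-/

set_option autoImplicit false

namespace Cfsg.Agent.Lib.Helper76.GOut

/-- `X` is solvable modulo `Y`: some term of the derived series of `X` lies in `Y`. -/
def SolvMod {A : Type*} [Group A] (X Y : Subgroup A) : Prop :=
  ∃ k : ℕ, (derivedSeries ↥X k).map X.subtype ≤ Y

variable {V : Type*} [AddCommGroup V] [Module (ZMod 2) V]

/-- The linear group of a finite space is finite. -/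
instance finite_linearEquiv [Finite V] : Finite (V ≃ₗ[ZMod 2] V) :=
  Finite.of_injective (fun e : V ≃ₗ[ZMod 2] V => (e : V → V)) DFunLike.coe_injective

/-- The subgroup `P` of `GL(V)` acts irreducibly. -/
def IrrSub (P : Subgroup (V ≃ₗ[ZMod 2] V)) : Prop :=
  ∀ W : Submodule (ZMod 2) V, (∀ x ∈ P, ∀ w ∈ W, x w ∈ W) → W = ⊥ ∨ W = ⊤

/-- The subgroup `Y` of `GL(V)` is transitive on the nonzero vectors. -/
def TransSub (Y : Subgroup (V ≃ₗ[ZMod 2] V)) : Prop :=
  ∀ v w : V, v ≠ 0 → w ≠ 0 → ∃ y ∈ Y, y v = w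

end Cfsg.Agent.Lib.Helper76.GOut
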