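import Mathlib

/-!
# Project GOUT (= S3066), block PL: the pure `2`-group lemma — definitions

`T` a finite `2`-group with `Ω₁(T) ≤ Z(T)`; then the group `cOmega T` of automorphisms of `T` fixing every
element of order `≤ 2` is solvable.
-/

set_option autoImplicit false

namespace Cfsg.Agent.Lib.Helper76.GOut

/-- The automorphisms of `T` fixing every element `x` with `x ^ 2 = 1`. -/
def cOmega (T : Type*) [Group T] : Subgroup (MulAut T) where
  carrier := {φ | ∀ x : T, x ^ 2 = 1 → φ x = x}
  one_mem' := fun _ _ => rfl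
  mul_mem' := by
    intro φ ψ hφ hψ x hx
    show φ (ψ x) = x
    rw [hψ x hx, hφ x hx]
  inv_mem' := by
    intro φ hφ x hx
    show φ⁻¹ x = x
    rw [MulAut.inv_apply, MulEquiv.symm_apply_eq, hφ x hx]

theorem mem_cOmega {T : Type*} [Group T] (φ : MulAut T) :
    φ ∈ cOmega T ↔ ∀ x : T, x ^ 2 = 1 → φ x = x := Iff.rfl

/-- The hypotheses of the core of block PL: a perfect group `R` acting on the `2`-group `Q`, fixing the
involutions (which are central), trivially on every proper invariant subgroup, but not trivially on `Q`. -/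
structure PLHyp {Q R : Type*} [Group Q] [Group R] (α : R →* MulAut Q) : Prop where
  perf : commutator R = ⊤
  min : ∀ M : Subgroup Q, M ≠ ⊤ → (∀ r : R, ∀ u ∈ M, α r u ∈ M) → ∀ r : R, ∀ u ∈ M, α r u = u
  inv : ∀ u : Q, u ^ 2 = 1 → u ∈ Subgroup.center Q ∧ ∀ r : R, α r u = u
  nontriv : ∃ (r : R) (u : Q), α r u ≠ u

end Cfsg.Agent.Lib.Helper76.GOut
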