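import Mathlib
import Cfsg.Prelude.Def_KGroupFacts
import Cfsg.Agent.Lib.Helper76.GOut.P1Defs
import Cfsg.Agent.Lib.Helper76.GOut.PLDefs

/-!
# Project GOUT (= S3066), block GLUE: definitions inside `MulAut G`
-/

set_option autoImplicit false

namespace Cfsg.Agent.Lib.Helper76.GOut

variable {G : Type*} [Group G]

/-- The automorphisms of `G` stabilizing the subgroup `H` (setwise). -/
def stabAut (H : Subgroup G) : Subgroup (MulAut G) where
  carrier := {φ | ∀ h : G, φ h ∈ H ↔ h ∈ H}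
  one_mem' := fun _ => Iff.rfl
  mul_mem' := by
    intro φ ψ hφ hψ h
    show φ (ψ h) ∈ H ↔ h ∈ H
    rw [hφ, hψ]
  inv_mem' := by
    intro φ hφ h
    have := hφ (φ⁻¹ h)
    rw [MulAut.apply_inv_self] at this
    exact this.symm

theorem mem_stabAut {H : Subgroup G} {φ : MulAut G} :
    φ ∈ stabAut H ↔ ∀ h : G, φ h ∈ H ↔ h ∈ H := Iff.rfl

/-- The automorphisms of `G` fixing the subgroup `H` pointwise. -/
def fixAut (H : Subgroup G) : Subgroup (MulAut G) where
  carrier := {φ | ∀ h ∈ H, φ h = h}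
  one_mem' := fun _ _ => rfl
  mul_mem' := by
    intro φ ψ hφ hψ h hh
    show φ (ψ h) = h
    rw [hψ h hh, hφ h hh]
  inv_mem' := by
    intro φ hφ h hh
    show φ⁻¹ h = h
    rw [MulAut.inv_apply, MulEquiv.symm_apply_eq, hφ h hh]

theorem mem_fixAut {H : Subgroup G} {φ : MulAut G} :
    φ ∈ fixAut H ↔ ∀ h ∈ H, φ h = h := Iff.rfl

theorem fixAut_le_stabAut (H : Subgroup G) : fixAut H ≤ stabAut H := by
  intro φ hφ h
  constructor
  · intro hh
    have h1 : φ⁻¹ (φ h) = φ h := (fixAut H).inv_mem hφ (φ h) hh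
    rw [MulAut.inv_apply_self] at h1
    rw [h1]; exact hh
  · intro hh
    rw [hφ h hh]; exact hh

/-- Restriction of automorphisms stabilizing `H` to `H`. -/
def resAut (H : Subgroup G) : ↥(stabAut H) →* MulAut ↥H where
  toFun φ :=
    { toFun := fun h => ⟨φ.1 h.1, (φ.2 h.1).2 h.2⟩
      invFun := fun h => ⟨φ.1⁻¹ h.1, (((stabAut H).inv_mem φ.2) h.1).2 h.2⟩
      left_inv := fun h => by
        apply Subtype.ext
        simp
      right_inv := fun h => by
        apply Subtype.ext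
        simp
      map_mul' := fun a b => by
        apply Subtype.ext
        simp }
  map_one' := by
    ext h
    simp
  map_mul' := fun φ ψ => by
    ext h
    simp

@[simp] theorem resAut_apply (H : Subgroup G) (φ : ↥(stabAut H)) (h : ↥H) :
    ((resAut H φ h : ↥H) : G) = φ.1 h.1 := rfl

/-- `Ω₁(S)`: the subgroup generated by the elements of `S` of order at most `2`. -/
def omega (S : Subgroup G) : Subgroup G :=
  Subgroup.closure {x : G | x ∈ S ∧ x ^ 2 = 1}

/-- The Frattini subgroup of `S`, as a subgroup of `G`. -/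
def frattiniIn (S : Subgroup G) : Subgroup G := (frattini ↥S).map S.subtype

/-- The automorphisms stabilizing `S` and acting trivially on `S/Φ(S)`. -/
def phiKer (S : Subgroup G) : Subgroup (MulAut G) where
  carrier := {φ | φ ∈ stabAut S ∧ ∀ s ∈ S, s⁻¹ * φ s ∈ frattiniIn S}
  one_mem' := ⟨(stabAut S).one_mem, fun s _ => by simp [(frattiniIn S).one_mem]⟩
  mul_mem' := by
    rintro φ ψ ⟨hφ, hφ'⟩ ⟨hψ, hψ'⟩
    refine ⟨(stabAut S).mul_mem hφ hψ, fun s hs => ?_⟩
    have h1 : ψ s ∈ S := (hψ s).2 hs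
    have h2 := hφ' (ψ s) h1
    have h3 := hψ' s hs
    have : s⁻¹ * (φ * ψ) s = (s⁻¹ * ψ s) * ((ψ s)⁻¹ * φ (ψ s)) := by
      rw [MulAut.mul_apply]; group
    rw [this]
    exact (frattiniIn S).mul_mem h3 h2
  inv_mem' := by
    rintro φ ⟨hφ, hφ'⟩
    refine ⟨(stabAut S).inv_mem hφ, fun s hs => ?_⟩
    have hs' : φ⁻¹ s ∈ S := (((stabAut S).inv_mem hφ) s).2 hs
    have h2 := hφ' (φ⁻¹ s) hs'
    rw [MulAut.apply_inv_self] at h2
    have : s⁻¹ * φ⁻¹ s = ((φ⁻¹ s)⁻¹ * s)⁻¹ := by group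
    rw [this]
    exact (frattiniIn S).inv_mem h2

end Cfsg.Agent.Lib.Helper76.GOut
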