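import Mathlib

/-!
# Project GOUT (= S3066), block QF: invariant quadratic forms on an irreducible `𝔽₂`-module

Definitions and the trivial identities.  `V` is a (finite) `ZMod 2`-module, `ρ : R →* (V ≃ₗ[ZMod 2] V)`.
-/

set_option autoImplicit false
set_option linter.unusedSectionVars false

namespace Cfsg.Agent.Lib.Helper76.GOut

variable {V : Type*} [AddCommGroup V] [Module (ZMod 2) V]
variable {R : Type*} [Group R]

/-- The polar form of a function `q : V → 𝔽₂` (characteristic `2`: no signs). -/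
def polar (q : V → ZMod 2) (u v : V) : ZMod 2 := q (u + v) + q u + q v

/-- `q` is a quadratic form over `𝔽₂`: its polar form is additive in the first variable. -/
def IsQuad (q : V → ZMod 2) : Prop :=
  ∀ u u' v : V, polar q (u + u') v = polar q u v + polar q u' v

/-- `q` is a `ρ`-invariant quadratic form. -/
def IsInv (ρ : R →* (V ≃ₗ[ZMod 2] V)) (q : V → ZMod 2) : Prop :=
  IsQuad q ∧ ∀ (g : R) (v : V), q (ρ g v) = q v

/-- The action `ρ` is irreducible. -/
def Irr (ρ : R →* (V ≃ₗ[ZMod 2] V)) : Prop :=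
  ∀ W : Submodule (ZMod 2) V, (∀ g : R, ∀ w ∈ W, ρ g w ∈ W) → W = ⊥ ∨ W = ⊤

/-- The invariant quadratic forms have no common nontrivial zero. -/
def Aniso (ρ : R →* (V ≃ₗ[ZMod 2] V)) : Prop :=
  ∀ v : V, v ≠ 0 → ∃ q : V → ZMod 2, IsInv ρ q ∧ q v ≠ 0

/-- The endomorphisms commuting with `ρ`. -/
def Comm (ρ : R →* (V ≃ₗ[ZMod 2] V)) : Set (Module.End (ZMod 2) V) :=
  {a | ∀ (g : R) (v : V), a (ρ g v) = ρ g (a v)}

/-- The standing hypothesis of block QF. -/
structure Hyp (ρ : R →* (V ≃ₗ[ZMod 2] V)) : Prop where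
  irr : Irr ρ
  aniso : Aniso ρ
  card : 2 < Nat.card V

theorem add_self' (u : V) : u + u = 0 := by
  have h : (2 : ZMod 2) = 0 := by decide
  have := two_smul (ZMod 2) u
  rw [h, zero_smul] at this
  exact this.symm

theorem zmod2_add_self (x : ZMod 2) : x + x = 0 := by
  revert x; decide

theorem polar_comm (q : V → ZMod 2) (u v : V) : polar q u v = polar q v u := by
  unfold polar
  rw [add_comm u v]
  ring

theorem IsQuad.map_zero {q : V → ZMod 2} (hq : IsQuad q) : q 0 = 0 := by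
  have h := hq 0 0 0
  unfold polar at h
  simp only [add_zero] at h
  have h2 : ∀ x : ZMod 2, x + x + x = x + x + x + (x + x + x) → x = 0 := by decide
  exact h2 _ h

theorem IsQuad.polar_zero_left {q : V → ZMod 2} (hq : IsQuad q) (v : V) : polar q 0 v = 0 := by
  unfold polar
  rw [zero_add, hq.map_zero]
  have h2 : ∀ x : ZMod 2, x + 0 + x = 0 := by decide
  exact h2 _

theorem IsQuad.polar_self {q : V → ZMod 2} (hq : IsQuad q) (u : V) : polar q u u = 0 := by
  unfold polar
  rw [add_self', hq.map_zero]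
  have h2 : ∀ x : ZMod 2, 0 + x + x = 0 := by decide
  exact h2 _

theorem IsQuad.polar_add_left {q : V → ZMod 2} (hq : IsQuad q) (u u' v : V) :
    polar q (u + u') v = polar q u v + polar q u' v := hq u u' v

theorem IsQuad.polar_add_right {q : V → ZMod 2} (hq : IsQuad q) (u v v' : V) :
    polar q u (v + v') = polar q u v + polar q u v' := by
  rw [polar_comm, hq.polar_add_left, polar_comm q v u, polar_comm q v' u]

theorem IsQuad.map_add {q : V → ZMod 2} (_hq : IsQuad q) (u v : V) :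
    q (u + v) = q u + q v + polar q u v := by
  unfold polar
  have h2 : ∀ x y z : ZMod 2, x = y + z + (x + y + z) := by decide
  exact h2 _ _ _

theorem IsInv.polar_map {ρ : R →* (V ≃ₗ[ZMod 2] V)} {q : V → ZMod 2} (hq : IsInv ρ q) (g : R)
    (u v : V) : polar q (ρ g u) (ρ g v) = polar q u v := by
  unfold polar
  rw [← map_add, hq.2, hq.2, hq.2]

/-- The basic identity: `q (u + g u) = β_q (u, g u)` for every isometry `g`. -/
theorem IsInv.map_add_apply {ρ : R →* (V ≃ₗ[ZMod 2] V)} {q : V → ZMod 2} (hq : IsInv ρ q) (g : R)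
    (u : V) : q (u + ρ g u) = polar q u (ρ g u) := by
  rw [hq.1.map_add, hq.2]
  have h2 : ∀ x y : ZMod 2, x + x + y = y := by decide
  exact h2 _ _

theorem isInv_zero (ρ : R →* (V ≃ₗ[ZMod 2] V)) : IsInv ρ (fun _ => 0) := by
  refine ⟨?_, fun _ _ => rfl⟩
  intro u u' v
  simp [polar]

theorem IsInv.add {ρ : R →* (V ≃ₗ[ZMod 2] V)} {q q' : V → ZMod 2} (hq : IsInv ρ q)
    (hq' : IsInv ρ q') : IsInv ρ (fun v => q v + q' v) := by
  refine ⟨?_, fun g v => by show q (ρ g v) + q' (ρ g v) = q v + q' v; rw [hq.2, hq'.2]⟩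
  intro u u' v
  have h1 := hq.1 u u' v
  have h2 := hq'.1 u u' v
  unfold polar at h1 h2 ⊢
  linear_combination h1 + h2

theorem one_mem_comm (ρ : R →* (V ≃ₗ[ZMod 2] V)) : (1 : Module.End (ZMod 2) V) ∈ Comm ρ :=
  fun _ _ => rfl

theorem zero_mem_comm (ρ : R →* (V ≃ₗ[ZMod 2] V)) : (0 : Module.End (ZMod 2) V) ∈ Comm ρ :=
  fun _ _ => by simp

theorem add_mem_comm {ρ : R →* (V ≃ₗ[ZMod 2] V)} {a b : Module.End (ZMod 2) V} (ha : a ∈ Comm ρ)
    (hb : b ∈ Comm ρ) : a + b ∈ Comm ρ := fun g v => by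
  simp only [LinearMap.add_apply, map_add]
  rw [ha g v, hb g v]

theorem mul_mem_comm {ρ : R →* (V ≃ₗ[ZMod 2] V)} {a b : Module.End (ZMod 2) V} (ha : a ∈ Comm ρ)
    (hb : b ∈ Comm ρ) : a * b ∈ Comm ρ := fun g v => by
  simp only [Module.End.mul_apply]
  rw [hb g v, ha g (b v)]

end Cfsg.Agent.Lib.Helper76.GOut
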